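import Cfsg.Agent.H24.Sd.Tools
import Cfsg.Agent.KFacts.J2.Facts
import Cfsg.Agent.KFacts.J3
import Cfsg.Agent.KFacts.J3Sheet
import Cfsg.Agent.H847.JTwoOdd

/-!
# S4579: `J2` and `J3` (helper24)

`elem_model` : a group with a model `2^{1+4}_- . A₅` which has an involution outside `Q`.
-/

set_option autoImplicit false

namespace Cfsg.Agent.H24.Sd

open Cfsg Cfsg.Agent.H643.Sd Cfsg.Agent.J2Type.Model Cfsg.Agent.J2Type.SPFacts Cfsg.Agent.J2Type.CStruct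
open Cfsg.Agent.J3Type.OneClass Cfsg.Agent.J2Type.Base

theorem perm_aux1 : ∀ σ : Equiv.Perm (Fin 5), Equiv.Perm.sign σ = 1 → σ * σ = 1 ∨ σ ^ 3 = 1 ∨ σ ^ 5 = 1 := by
  decide +kernel

theorem perm_aux2 : ∀ σ τ : Equiv.Perm (Fin 5), Equiv.Perm.sign σ = 1 → Equiv.Perm.sign τ = 1 → σ * σ = 1 →
    τ * τ = 1 → σ ≠ 1 → τ ≠ 1 → ∃ c : Equiv.Perm (Fin 5), Equiv.Perm.sign c = 1 ∧ c * σ * c⁻¹ = τ := by
  decide +kernel

theorem perm_aux3 (σ : Equiv.Perm (Fin 5)) (hs : Equiv.Perm.sign σ = 1) {k : ℕ} (h : σ ^ 2 ^ k = 1) : σ * σ = 1 := by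
  have key : ∀ p : ℕ, p.Prime → p ≠ 2 → σ ^ p = 1 → σ * σ = 1 := by
    intro p hp h2 hσ
    have h1 : orderOf σ ∣ p := orderOf_dvd_of_pow_eq_one hσ
    have h3 : orderOf σ ∣ 2 ^ k := orderOf_dvd_of_pow_eq_one h
    have h4 : Nat.Coprime p (2 ^ k) := ((Nat.coprime_primes hp Nat.prime_two).2 h2).pow_right k
    have h5 : orderOf σ = 1 := Nat.eq_one_of_dvd_coprimes h4 h1 h3
    rw [orderOf_eq_one_iff.1 h5, one_mul]
  rcases perm_aux1 σ hs with h1 | h1 | h1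
  · exact h1
  · exact key 3 Nat.prime_three (by norm_num) h1
  · exact key 5 Nat.prime_five (by norm_num) h1

/-- `Elem C` for a model with an involution outside `Q`. -/
theorem elem_model {C : Type*} [Group C] [Finite C] {Q : Subgroup C} {z : C} {v : Fin 5 → C} {ρ : C →* SP}
    (M : IsModel Q z v ρ) {u : C} (hu : u * u = 1) (huQ : u ∉ Q) : Elem C := by
  have h2 : Fact (Nat.Prime 2) := ⟨Nat.prime_two⟩
  have hn := normal_Q M
  have hsign : ∀ c, Equiv.Perm.sign (ρ c).σ = 1 := fun c => ((M.range (ρ c)).1 ⟨c, rfl⟩).1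
  have hmul : ∀ a b, (ρ (a * b)).σ = (ρ a).σ * (ρ b).σ := fun a b => by rw [map_mul]; rfl
  have hinv : ∀ a, (ρ a⁻¹).σ = ((ρ a).σ)⁻¹ := fun a => by rw [map_inv]; rfl
  intro P f
  have hQP : Q ≤ (P : Subgroup C) := by
    obtain ⟨g, hg⟩ := (Cfsg.Agent.KFacts.J2.Facts.isPGroup_Q M).exists_le_sylow
    obtain ⟨c, hc⟩ := MulAction.exists_smul_eq C g P
    rw [← hc]
    intro q hq
    have h1 : c⁻¹ * q * (c⁻¹)⁻¹ ∈ (g : Subgroup C) := hg (hn.conj_mem q hq c⁻¹)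
    rw [inv_inv] at h1
    have h3 : c * (c⁻¹ * q * c) * c⁻¹ ∈ ((c • g : Sylow 2 C) : Subgroup C) :=
      Subgroup.smul_mem_pointwise_smul _ (MulAut.conj c) _ h1
    have h4 : c * (c⁻¹ * q * c) * c⁻¹ = q := by group
    rwa [h4] at h3
  have hinvol : ∀ (x : C) (hx : x ∈ (P : Subgroup C)), x * x = 1 → f ⟨x, hx⟩ ^ 2 = 1 := by
    intro x hx h
    rw [pow_two, ← map_mul]
    have h1 : (⟨x, hx⟩ : (P : Subgroup C)) * ⟨x, hx⟩ = 1 := Subtype.ext h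
    rw [h1, map_one]
  have hmul2 : ∀ (x y : C) (hx : x ∈ (P : Subgroup C)) (hy : y ∈ (P : Subgroup C)), f ⟨x, hx⟩ ^ 2 = 1 →
      f ⟨y, hy⟩ ^ 2 = 1 → f ⟨x * y, mul_mem hx hy⟩ ^ 2 = 1 := by
    intro x y hx hy h1 h3
    have h4 : (⟨x * y, mul_mem hx hy⟩ : (P : Subgroup C)) = ⟨x, hx⟩ * ⟨y, hy⟩ := rfl
    rw [h4, map_mul, mul_pow, h1, h3, one_mul]
  have hv : ∀ i, f ⟨v i, hQP (M.v_mem i)⟩ ^ 2 = 1 := fun i => hinvol _ _ (M.v_sq i)
  have hz : ∀ a : ZMod 2, ∃ h : zp z a ∈ (P : Subgroup C), f ⟨zp z a, h⟩ ^ 2 = 1 := by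
    intro a
    rcases zmod2_cases a with h | h
    · refine ⟨by rw [h, zp_zero]; exact one_mem _, hinvol _ _ (by rw [h, zp_zero, one_mul])⟩
    · refine ⟨by rw [h, zp_one]; exact hQP M.z_mem, hinvol _ _ (by rw [h, zp_one, M.z_sq])⟩
  have hfQ : ∀ (q : C) (hq : q ∈ Q), f ⟨q, hQP hq⟩ ^ 2 = 1 := by
    intro q hq
    rcases M.cover q hq with ⟨a, rfl⟩ | ⟨a, i, rfl⟩ | ⟨a, i, j, -, rfl⟩
    · exact (hz a).2
    · exact hmul2 _ _ (hz a).1 _ (hz a).2 (hv i)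
    · exact hmul2 _ _ (hz a).1 _ (hz a).2 (hmul2 _ _ _ _ (hv i) (hv j))
  rintro ⟨x, hx⟩
  by_cases hxQ : x ∈ Q
  · exact hfQ x hxQ
  have hσ : (ρ x).σ ≠ 1 := fun h => hxQ ((M.mem_Q x).2 h)
  have hτ : (ρ u).σ ≠ 1 := fun h => huQ ((M.mem_Q u).2 h)
  have hσσ : (ρ x).σ * (ρ x).σ = 1 := by
    obtain ⟨k, hk⟩ := P.isPGroup' ⟨x, hx⟩
    have hk' : x ^ 2 ^ k = 1 := congrArg Subtype.val hk
    refine perm_aux3 _ (hsign x) (k := k) ?_
    have h3 : Cfsg.Agent.KFacts.QMinus.permHom ρ (x ^ 2 ^ k) = 1 := by rw [hk', map_one]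
    rw [map_pow] at h3
    exact h3
  have hττ : (ρ u).σ * (ρ u).σ = 1 := by rw [← hmul, hu, map_one]; rfl
  obtain ⟨γ, hγ, hγσ⟩ := perm_aux2 _ _ (hsign u) (hsign x) hττ hσσ hτ hσ
  obtain ⟨c, hc⟩ := (M.range ⟨γ, fun _ => 0⟩).2 ⟨hγ, by simp⟩
  have hcσ : (ρ c).σ = γ := by rw [hc]
  set w := c * u * c⁻¹ with hw
  have hww : w * w = 1 := by
    rw [hw]
    calc c * u * c⁻¹ * (c * u * c⁻¹) = c * (u * u) * c⁻¹ := by group
      _ = 1 := by rw [hu, mul_one, mul_inv_cancel]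
  have hwσ : (ρ w).σ = (ρ x).σ := by rw [hw, hmul, hmul, hinv, hcσ, hγσ]
  have hq : w * x ∈ Q := by
    rw [M.mem_Q, hmul, hwσ, hσσ]
  have hwi : w = w⁻¹ := (inv_eq_of_mul_eq_one_left hww).symm
  have hwP : w ∈ (P : Subgroup C) := by
    have h3 : w = (w * x) * x⁻¹ := by group
    rw [h3]
    exact mul_mem (hQP hq) (inv_mem hx)
  have h3 := hmul2 w (w * x) hwP (hQP hq) (hinvol w hwP hww) (hfQ _ hq)
  have h4 : w * (w * x) = x := by rw [← mul_assoc, hww, one_mul]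
  have h5 : (⟨w * (w * x), mul_mem hwP (hQP hq)⟩ : (P : Subgroup C)) = ⟨x, hx⟩ := Subtype.ext h4
  rwa [h5] at h3

/-- **Row `J2` of S4579.** -/
theorem elem_j2 {G : Type*} [Group G] [Finite G] (h : Cfsg.Spor.IsoJ2 G) : Elem G := by
  obtain ⟨t, u, Q, v, ρ, D⟩ := Cfsg.Agent.KFacts.J2.Facts.exists_dat_of h
  refine elem_of_odd_index (Subgroup.centralizer ({t} : Set G)) ?_
    (elem_model D.M (u := ⟨u, D.u_mem⟩) (Subtype.ext D.uu) D.u_notMem)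
  have hc := Cfsg.Agent.H847.JTwoOdd.card_of h
  have h1 := (Subgroup.centralizer ({t} : Set G)).card_mul_index
  rw [hc, D.F.cardC] at h1
  have h2 : (Subgroup.centralizer ({t} : Set G)).index = 315 := by omega
  rw [h2]
  decide

/-- **Row `J3` of S4579.** -/
theorem elem_j3 {G : Type*} [Group G] [Finite G] (h : Cfsg.Spor.IsoJ3 G) : Elem G := by
  obtain ⟨-, z, Q, v, ρ, n, u, F⟩ := Cfsg.Agent.KFacts.J3.exists_facts h
  refine elem_of_odd_index (Subgroup.centralizer ({z} : Set G)) ?_ (elem_model F.model F.u_sq F.u_not)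
  have h1 := (Subgroup.centralizer ({z} : Set G)).card_mul_index
  rw [F.card_K, F.card_C] at h1
  have h2 : (Subgroup.centralizer ({z} : Set G)).index = 26163 := by omega
  rw [h2]
  decide

end Cfsg.Agent.H24.Sd
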