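import Cfsg.Agent.H643.Sd.Def

/-!
# S4579: tools for `Elem` (helper24)
-/

set_option autoImplicit false

namespace Cfsg.Agent.H24.Sd

open Cfsg.Agent.H643.Sd

/-- Transport of `Lin2`. -/
theorem lin2_equiv {P R : Type*} [Group P] [Group R] (e : P ≃* R) (h : Lin2 P) : Lin2 R := by
  intro f x
  have h1 := h (f.comp e.toMonoidHom) (e.symm x)
  simpa using h1

/-- Groups in which all squares are trivial. -/
theorem lin2_of_sq {P : Type*} [Group P] (h : ∀ x : P, x * x = 1) : Lin2 P := by
  intro f x
  rw [pow_two, ← map_mul, h, map_one]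

/-- Every element is a product of two elements of square one. -/
theorem lin2_of_prod {P : Type*} [Group P] (h : ∀ x : P, ∃ a b : P, a * a = 1 ∧ b * b = 1 ∧ x = a * b) : Lin2 P := by
  intro f x
  obtain ⟨a, b, ha, hb, rfl⟩ := h x
  rw [map_mul, mul_pow, pow_two, pow_two, ← map_mul, ← map_mul, ha, hb, map_one, mul_one]

theorem elem_of_sylow {G : Type*} [Group G] [Finite G] (P : Sylow 2 G) (h : Lin2 (P : Subgroup G)) : Elem G := by
  have : Fact (Nat.Prime 2) := ⟨Nat.prime_two⟩
  intro R
  exact lin2_equiv (Sylow.equiv P R) h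

theorem elem_congr {G H : Type*} [Group G] [Group H] (e : G ≃* H) (h : Elem G) : Elem H := by
  intro P
  have hinj : Function.Injective e.toMonoidHom := e.injective
  let R : Sylow 2 G := P.comapOfInjective e.toMonoidHom hinj (by
    rw [MonoidHom.range_eq_top.2 e.surjective]; exact le_top)
  have h1 : (R : Subgroup G).map e.toMonoidHom = (P : Subgroup H) := by
    show ((P : Subgroup H).comap e.toMonoidHom).map e.toMonoidHom = _
    exact Subgroup.map_comap_eq_self_of_surjective e.surjective _
  have e1 : (R : Subgroup G) ≃* (P : Subgroup H) :=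
    ((R : Subgroup G).equivMapOfInjective e.toMonoidHom hinj).trans (MulEquiv.subgroupCongr h1)
  exact lin2_equiv e1 (h R)

/-- **E0** : subgroups of odd index. -/
theorem elem_of_odd_index {G : Type*} [Group G] [Finite G] (H : Subgroup G) (hi : Odd H.index) (h : Elem H) :
    Elem G := by
  have h2 : Fact (Nat.Prime 2) := ⟨Nat.prime_two⟩
  obtain ⟨Q⟩ : Nonempty (Sylow 2 H) := inferInstance
  have hc : Nat.card ((Q : Subgroup H).map H.subtype) = 2 ^ (Nat.card G).factorization 2 := by
    rw [Subgroup.card_map_of_injective H.subtype_injective, Q.card_eq_multiplicity, ← H.card_mul_index,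
      Nat.factorization_mul Nat.card_pos.ne' Subgroup.index_ne_zero_of_finite, Finsupp.add_apply,
      Nat.factorization_eq_zero_of_not_dvd (n := H.index) (by
        rw [← even_iff_two_dvd, Nat.not_even_iff_odd]; exact hi), add_zero]
  refine elem_of_sylow (Sylow.ofCard ((Q : Subgroup H).map H.subtype) hc) ?_
  exact lin2_equiv ((Q : Subgroup H).equivMapOfInjective H.subtype H.subtype_injective) (h Q)

/-- The Sylow `2`-subgroups are contained in `P`-like sets: a criterion with elements. -/
theorem elem_of_forall {G : Type*} [Group G] [Finite G] (h : ∀ (P : Sylow 2 G) (f : (P : Subgroup G) →* ℂˣ)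
    (x : G) (hx : x ∈ (P : Subgroup G)), f ⟨x, hx⟩ ^ 2 = 1) : Elem G :=
  fun P f x => h P f x.1 x.2

end Cfsg.Agent.H24.Sd
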